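import Mathlib.GroupTheory.Sylow
import Mathlib.GroupTheory.Perm.Cycle.Type
import Mathlib.GroupTheory.Index

/-!
# Automorphisms of prime order coprime to the group order

Fixed points in invariant sets, cosets and Sylow sets; if some Sylow `2`-subgroup is fixed
pointwise then every invariant `2`-subgroup is.
-/

set_option autoImplicit false

namespace CfsgLib.CoprimeInvol

open Subgroup
open scoped Pointwise

variable {G : Type*} [Group G]

/-- The fixed points of an automorphism. -/
def fix (β : MulAut G) : Subgroup G := MonoidHom.eqLocus β.toMonoidHom (MonoidHom.id G)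

theorem mem_fix {β : MulAut G} {g : G} : g ∈ fix β ↔ β g = g := Iff.rfl

/-- `H` is invariant under `β`. -/
def Inv (β : MulAut G) (H : Subgroup G) : Prop := ∀ x ∈ H, β x ∈ H

variable [Finite G] {r : ℕ} [hr : Fact r.Prime] {β : MulAut G}

theorem exists_fixed_mem (hβ : β ^ r = 1) {s : Set G} (hs : ∀ x ∈ s, β x ∈ s)
    (hc : ¬ r ∣ Nat.card s) : ∃ x ∈ s, β x = x := by
  classical
  have : Fintype s := Fintype.ofFinite _
  let f : s → s := fun x => ⟨β x, hs x x.2⟩
  have hf : Function.Injective f := fun x y h =>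
    Subtype.ext (β.injective (congrArg Subtype.val h :))
  let σ : Equiv.Perm s := Equiv.ofBijective f (Finite.injective_iff_bijective.1 hf)
  have hk : ∀ (k : ℕ) (x : s), (((σ ^ k) x : s) : G) = (β ^ k) (x : G) := by
    intro k
    induction k with
    | zero => intro x; rfl
    | succ k ih =>
        intro x
        rw [pow_succ', pow_succ', Equiv.Perm.mul_apply, MulAut.mul_apply, ← ih]
        rfl
  have hσ : σ ^ r ^ 1 = 1 := by
    refine Equiv.ext fun x => Subtype.ext ?_
    rw [pow_one, hk, hβ]; rfl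
  obtain ⟨x, hx⟩ := Equiv.Perm.exists_fixed_point_of_prime
    (by rwa [← Nat.card_eq_fintype_card]) hσ
  exact ⟨x, x.2, congrArg Subtype.val hx⟩

/-- An invariant coset contains a fixed point. -/
theorem exists_fixed_coset (hβ : β ^ r = 1) (hrG : ¬ r ∣ Nat.card G) {H : Subgroup G} {g : G}
    (h : ∀ x, g⁻¹ * x ∈ H → g⁻¹ * β x ∈ H) : ∃ x, g⁻¹ * x ∈ H ∧ β x = x := by
  let e : {x : G | g⁻¹ * x ∈ H} ≃ H :=
    { toFun := fun x => ⟨g⁻¹ * x, x.2⟩
      invFun := fun y => ⟨g * y, by simp⟩
      left_inv := fun x => Subtype.ext (by simp)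
      right_inv := fun y => Subtype.ext (by simp) }
  refine exists_fixed_mem hβ (s := {x | g⁻¹ * x ∈ H}) h ?_
  rw [Nat.card_congr e]
  exact fun hd => hrG (hd.trans H.card_subgroup_dvd_card)

/-- An invariant subgroup has an invariant Sylow `p`-subgroup. -/
theorem exists_inv_sylow (p : ℕ) [Fact p.Prime] (hβ : β ^ r = 1) (hrG : ¬ r ∣ Nat.card G)
    {M : Subgroup G} (hM : Inv β M) :
    ∃ R : Sylow p M, Inv β ((R : Subgroup M).map M.subtype) := by
  classical
  let f : M →* M := (β.toMonoidHom.comp M.subtype).codRestrict M fun x => hM x x.2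
  have hf : Function.Injective f := fun x y h =>
    Subtype.ext (β.injective (congrArg Subtype.val h :))
  let γ : MulAut M := MulEquiv.ofBijective f (Finite.injective_iff_bijective.1 hf)
  have hk : ∀ (k : ℕ) (x : M), (((γ ^ k) x : M) : G) = (β ^ k) (x : G) := by
    intro k
    induction k with
    | zero => intro x; rfl
    | succ k ih =>
        intro x
        rw [pow_succ', pow_succ', MulAut.mul_apply, MulAut.mul_apply, ← ih]
        rfl
  have hγ : γ ^ r = 1 := by
    refine MulEquiv.ext fun x => Subtype.ext ?_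
    rw [hk, hβ]; rfl
  have : Fintype (Sylow p M) := Fintype.ofFinite _
  let σ : Equiv.Perm (Sylow p M) := MulAction.toPermHom (MulAut M) (Sylow p M) γ
  have hσ : σ ^ r ^ 1 = 1 := by
    rw [pow_one, ← map_pow, hγ, map_one]
  obtain ⟨P0⟩ : Nonempty (Sylow p M) := inferInstance
  have hn : ¬ r ∣ Fintype.card (Sylow p M) := by
    rw [← Nat.card_eq_fintype_card]
    exact fun hd => hrG (((hd.trans P0.card_dvd_index).trans
      (P0 : Subgroup M).index_dvd_card).trans M.card_subgroup_dvd_card)
  obtain ⟨R, hR⟩ := Equiv.Perm.exists_fixed_point_of_prime hn hσ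
  refine ⟨R, ?_⟩
  rintro _ ⟨x, hx, rfl⟩
  refine ⟨γ x, ?_, rfl⟩
  have h1 : γ x ∈ γ • (R : Subgroup M) := Subgroup.smul_mem_pointwise_smul x γ _ hx
  have h2 : (γ • R : Sylow p M) = R := hR
  rw [← Sylow.pointwise_smul_def, h2] at h1
  exact h1

/-- An invariant `2`-subgroup lies in an invariant Sylow `2`-subgroup. -/
theorem exists_inv_sylow_ge (hβ : β ^ r = 1) (hrG : ¬ r ∣ Nat.card G) {P : Subgroup G}
    (hP : IsPGroup 2 P) (hPI : Inv β P) :
    ∃ S : Sylow 2 G, P ≤ (S : Subgroup G) ∧ Inv β (S : Subgroup G) := by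
  induction hn : P.index using Nat.strong_induction_on generalizing P with
  | _ n ih =>
    by_cases h2 : 2 ∣ P.index
    · obtain ⟨k, hk⟩ := IsPGroup.iff_card.1 hP
      have hdvd : 2 ^ (k + 1) ∣ Nat.card G := by
        rw [← P.card_mul_index, hk, pow_succ]
        exact mul_dvd_mul_left _ h2
      have hq := Sylow.prime_dvd_card_quotient_normalizer hdvd hk
      let N := normalizer (P : Set G)
      have hNI : Inv β N := by
        intro x hx
        rw [mem_normalizer_iff] at hx ⊢
        intro y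
        have hPI' : ∀ z, β z ∈ P ↔ z ∈ P := by
          have hbij : Function.Surjective (fun z : P => (⟨β z, hPI z z.2⟩ : P)) :=
            (Finite.injective_iff_surjective).1 fun a b h =>
              Subtype.ext (β.injective (congrArg Subtype.val h :))
          intro z
          refine ⟨fun hz => ?_, hPI z⟩
          obtain ⟨w, hw⟩ := hbij ⟨β z, hz⟩
          have := β.injective (congrArg Subtype.val hw :)
          exact this ▸ w.2
        obtain ⟨z, rfl⟩ := β.surjective y
        rw [← map_inv, ← map_mul, ← map_mul, hPI', hPI']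
        exact hx z
      obtain ⟨R, hR⟩ := exists_inv_sylow 2 hβ hrG hNI
      set Q := (R : Subgroup N).map N.subtype with hQ
      have hPle : P ≤ N := le_normalizer
      have hPn : (P.subgroupOf N).Normal := normal_in_normalizer
      have hPR : P.subgroupOf N ≤ (R : Subgroup N) :=
        (hP.of_equiv (subgroupOfEquivOfLe hPle).symm).le_sylow_of_normal R
      have hPQ : P ≤ Q := by
        intro x hx
        exact ⟨⟨x, hPle hx⟩, hPR hx, rfl⟩
      have hne : P ≠ Q := by
        intro h
        apply R.not_dvd_index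
        have h1 : (R : Subgroup N) = P.subgroupOf N := by
          refine le_antisymm ?_ hPR
          intro x hx
          show (x : G) ∈ P
          rw [h]; exact ⟨x, hx, rfl⟩
        rw [h1]
        exact hq
      have hQ2 : IsPGroup 2 Q := R.isPGroup'.map _
      obtain ⟨S, hS, hSI⟩ := ih Q.index (hn ▸ index_strictAnti (lt_of_le_of_ne hPQ hne)) hQ2 hR rfl
      exact ⟨S, hPQ.trans hS, hSI⟩
    · exact ⟨hP.toSylow h2, le_rfl, hPI⟩

/-- If some Sylow `2`-subgroup is fixed pointwise, so is every invariant `2`-subgroup. -/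
theorem fixed_of_inv (hβ : β ^ r = 1) (hrG : ¬ r ∣ Nat.card G) (S₀ : Sylow 2 G)
    (h0 : ∀ x ∈ (S₀ : Subgroup G), β x = x) {P : Subgroup G} (hP : IsPGroup 2 P) (hPI : Inv β P) :
    ∀ x ∈ P, β x = x := by
  obtain ⟨S, hPS, hSI⟩ := exists_inv_sylow_ge hβ hrG hP hPI
  obtain ⟨g, hg⟩ := MulAction.exists_smul_eq G S₀ S
  have hmem : ∀ x : G, x ∈ (S : Subgroup G) ↔ g⁻¹ * x * g ∈ (S₀ : Subgroup G) := by
    intro x
    rw [← hg, Sylow.coe_subgroup_smul, Subgroup.mem_pointwise_smul_iff_inv_smul_mem,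
      MulAut.smul_def, MulAut.conj_inv_apply]
  let H := normalizer ((S₀ : Subgroup G) : Set G)
  obtain ⟨h, hh, hhf⟩ := exists_fixed_coset hβ hrG (H := H) (g := g) (by
    intro y hy
    -- `β y` conjugates `S₀` into `S`
    have h1 : ∀ z ∈ (S₀ : Subgroup G), y * z * y⁻¹ ∈ (S : Subgroup G) := by
      intro z hz
      rw [hmem, show g⁻¹ * (y * z * y⁻¹) * g = (g⁻¹ * y) * z * (g⁻¹ * y)⁻¹ by group]
      exact (mem_normalizer_iff.1 hy z).1 hz
    refine mem_normalizer_iff.2 ?_
    have h2 : ∀ z ∈ (S₀ : Subgroup G), (g⁻¹ * β y) * z * (g⁻¹ * β y)⁻¹ ∈ (S₀ : Subgroup G) := by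
      intro z hz
      have h3 := hSI _ (h1 z hz)
      rw [map_mul, map_mul, map_inv, h0 z hz, hmem] at h3
      rw [show (g⁻¹ * β y) * z * (g⁻¹ * β y)⁻¹ = g⁻¹ * (β y * z * (β y)⁻¹) * g by group]
      exact h3
    intro z
    refine ⟨h2 z, fun hz => ?_⟩
    have hsurj : Function.Surjective (fun w : (S₀ : Subgroup G) =>
        (⟨(g⁻¹ * β y) * w * (g⁻¹ * β y)⁻¹, h2 w w.2⟩ : (S₀ : Subgroup G))) :=
      Finite.injective_iff_surjective.1 fun a b hab => Subtype.ext
        (mul_left_cancel (mul_right_cancel (congrArg Subtype.val hab :)))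
    obtain ⟨w, hw⟩ := hsurj ⟨_, hz⟩
    have := mul_left_cancel (mul_right_cancel (congrArg Subtype.val hw :))
    exact this ▸ w.2)
  intro x hx
  have hx' := (hmem x).1 (hPS hx)
  have h4 : h⁻¹ * x * h ∈ (S₀ : Subgroup G) := by
    have := (mem_normalizer_iff.1 (inv_mem hh) _).1 hx'
    rwa [show (g⁻¹ * h)⁻¹ * (g⁻¹ * x * g) * (g⁻¹ * h)⁻¹⁻¹ = h⁻¹ * x * h by group] at this
  have h5 := h0 _ h4
  rw [map_mul, map_mul, map_inv, hhf] at h5
  exact mul_left_cancel (mul_right_cancel h5)

end CfsgLib.CoprimeInvol
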