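import Cfsg.Agent.Lib.CoprimeInvol.Basic
import Cfsg.Agent.Lib.Invol.BrauerSuzuki
import Cfsg.Prelude.Def_TwoFusion

/-!
# A coprime automorphism does not centralise an involution centraliser of a simple group

Let `C` be the fixed point group of `β`, let `C(τ) ≤ C`.  Then `τ` fixes one point of `G/C`, each
coset `jC` holds at most `|τ^G ∩ C|` conjugates of `τ`, so exactly that many, and this forces
`τ^G ∩ C = {τ}`; Glauberman's `Z*` theorem finishes.
-/

set_option autoImplicit false

universe u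

namespace CfsgLib.CoprimeInvol

open Subgroup

variable {G : Type u} [Group G]

/-- The conjugates of `τ` under elements of `H`. -/
def conjBy (τ : G) (H : Subgroup G) : Set G := {x | ∃ g ∈ H, g * τ * g⁻¹ = x}

theorem card_conjBy (τ : G) (H : Subgroup G) :
    Nat.card (conjBy τ H) = (centralizer ({τ} : Set G)).relIndex H := by
  let K := (centralizer ({τ} : Set G)).subgroupOf H
  have key : ∀ a b : H, (QuotientGroup.mk a : H ⧸ K) = QuotientGroup.mk b ↔
      (a : G) * τ * (a : G)⁻¹ = (b : G) * τ * (b : G)⁻¹ := by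
    intro a b
    rw [QuotientGroup.eq, mem_subgroupOf, mem_centralizer_singleton_iff]
    simp only [Subgroup.coe_mul, InvMemClass.coe_inv]
    constructor
    · intro h
      calc (a : G) * τ * (a : G)⁻¹ = (a : G) * (τ * ((a : G)⁻¹ * b)) * (b : G)⁻¹ := by group
        _ = (a : G) * (((a : G)⁻¹ * b) * τ) * (b : G)⁻¹ := by rw [h]
        _ = _ := by group
    · intro h
      calc (a : G)⁻¹ * b * τ = (a : G)⁻¹ * ((b : G) * τ * (b : G)⁻¹) * b := by group
        _ = (a : G)⁻¹ * ((a : G) * τ * (a : G)⁻¹) * b := by rw [h]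
        _ = _ := by group
  let F : H ⧸ K → conjBy τ H := fun q => Quotient.liftOn' q
    (fun a => ⟨(a : G) * τ * (a : G)⁻¹, a, a.2, rfl⟩)
    fun a b h => Subtype.ext ((key a b).1 (Quotient.sound' h))
  have hF : Function.Bijective F := by
    constructor
    · intro p q
      induction p using Quotient.inductionOn' with
      | _ a =>
      induction q using Quotient.inductionOn' with
      | _ b => exact fun h => (key a b).2 (congrArg Subtype.val h :)
    · rintro ⟨x, g, hg, rfl⟩
      exact ⟨QuotientGroup.mk ⟨g, hg⟩, rfl⟩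
  rw [← Nat.card_congr (Equiv.ofBijective F hF)]
  rfl

variable [Finite G] [IsSimpleGroup G] {r : ℕ} [hr : Fact r.Prime] {β : MulAut G}

/-- A simple group has no nontrivial automorphism of coprime prime order fixing an involution
centraliser pointwise. -/
theorem eq_one_of_fix_centralizer (hG : ¬ IsMulCommutative G) (hβ : β ^ r = 1)
    (hrG : ¬ r ∣ Nat.card G) {τ : G} (hτ : orderOf τ = 2)
    (hfix : ∀ c ∈ centralizer ({τ} : Set G), β c = c) : β = 1 := by
  classical
  by_contra hβ1
  haveI : Fact (Nat.Prime 2) := ⟨Nat.prime_two⟩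
  let C := fix β
  let T := conjBy τ (⊤ : Subgroup G)
  let TC := conjBy τ C
  have hττ : τ * τ = 1 := by
    have := pow_orderOf_eq_one τ
    rwa [hτ, pow_two] at this
  have hτC : τ ∈ C := hfix τ (mem_centralizer_singleton_iff.2 rfl)
  have hCle : centralizer ({τ} : Set G) ≤ C := hfix
  have hCtop : C ≠ ⊤ := fun h => hβ1 (MulEquiv.ext fun x => (h ▸ mem_top x : x ∈ C))
  -- fusion in `C`
  have hTC : ∀ x ∈ T, x ∈ C → x ∈ TC := by
    rintro _ ⟨g, -, rfl⟩ hx
    obtain ⟨y, hy, hyf⟩ := exists_fixed_coset hβ hrG (H := centralizer ({τ} : Set G)) (g := g) (by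
      intro y hy
      rw [mem_centralizer_singleton_iff] at hy ⊢
      have h1 : y * τ * y⁻¹ = g * τ * g⁻¹ := by
        calc y * τ * y⁻¹ = g * (g⁻¹ * y * τ) * y⁻¹ := by group
          _ = g * (τ * (g⁻¹ * y)) * y⁻¹ := by rw [hy]
          _ = _ := by group
      have h2 : β y * τ * (β y)⁻¹ = g * τ * g⁻¹ := by
        have hx' : β (g * τ * g⁻¹) = g * τ * g⁻¹ := hx
        have hτ' : β τ = τ := hτC
        conv_rhs => rw [← hx', ← h1]
        rw [map_mul, map_mul, map_inv, hτ']
      calc g⁻¹ * β y * τ = g⁻¹ * (β y * τ * (β y)⁻¹) * β y := by group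
        _ = g⁻¹ * (g * τ * g⁻¹) * β y := by rw [h2]
        _ = _ := by group)
    refine ⟨y, hyf, ?_⟩
    rw [mem_centralizer_singleton_iff] at hy
    calc y * τ * y⁻¹ = g * (g⁻¹ * y * τ) * y⁻¹ := by group
      _ = g * (τ * (g⁻¹ * y)) * y⁻¹ := by rw [hy]
      _ = _ := by group
  have hTCC : ∀ x ∈ TC, x ∈ C ∧ x ∈ T := by
    rintro _ ⟨c, hc, rfl⟩
    exact ⟨mul_mem (mul_mem hc hτC) (inv_mem hc), c, mem_top c, rfl⟩
  -- `τ` fixes only the base point of `G ⧸ C`
  have hone : ∀ g : G, g⁻¹ * τ * g ∈ C → g ∈ C := by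
    intro g hg
    obtain ⟨c, hc, hcx⟩ := hTC _ ⟨g⁻¹, mem_top _, by rw [inv_inv]⟩ hg
    have h1 : g * c ∈ centralizer ({τ} : Set G) := by
      rw [mem_centralizer_singleton_iff]
      calc g * c * τ = g * (c * τ * c⁻¹) * c := by group
        _ = g * (g⁻¹ * τ * g) * c := by rw [hcx]
        _ = _ := by group
    simpa using mul_mem (hCle h1) (inv_mem hc)
  have hodd : ¬ 2 ∣ C.index := by
    intro h2
    have : Fintype (G ⧸ C) := Fintype.ofFinite _
    let σ : Equiv.Perm (G ⧸ C) := MulAction.toPermHom G (G ⧸ C) τ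
    have hσ : σ ^ 2 ^ 1 = 1 := by rw [pow_one, ← map_pow, pow_two, hττ, map_one]
    have ha : σ ((1 : G) : G ⧸ C) = ((1 : G) : G ⧸ C) := by
      show ((τ * 1 : G) : G ⧸ C) = ((1 : G) : G ⧸ C)
      rw [mul_one, QuotientGroup.eq]
      simpa using hτC
    obtain ⟨b, hb, hb1⟩ := Equiv.Perm.exists_fixed_point_of_prime'
      (by rw [← Nat.card_eq_fintype_card]; exact h2) hσ ha
    obtain ⟨g, rfl⟩ := QuotientGroup.mk_surjective b
    apply hb1
    have hgC : g ∈ C := by
      refine hone g ?_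
      have hb' : ((τ * g : G) : G ⧸ C) = (g : G ⧸ C) := hb
      rw [eq_comm, QuotientGroup.eq, ← mul_assoc] at hb'
      exact hb'
    rw [QuotientGroup.eq]
    simpa using inv_mem hgC
  obtain ⟨P⟩ : Nonempty (Sylow 2 C) := inferInstance
  have hPidx : ¬ 2 ∣ ((P : Subgroup C).map C.subtype).index := by
    rw [index_map_subtype, Nat.prime_two.dvd_mul]
    rintro (h | h)
    · exact P.not_dvd_index h
    · exact hodd h
  let S₀ : Sylow 2 G := (P.isPGroup'.map C.subtype).toSylow hPidx
  have h0 : ∀ x ∈ (S₀ : Subgroup G), β x = x := by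
    intro x hx
    obtain ⟨c, -, rfl⟩ := (hx : x ∈ (P : Subgroup C).map C.subtype)
    exact c.2
  -- fibres
  let π : T → G ⧸ C := fun x => ((x : G) : G ⧸ C)
  have hfib : ∀ q : G ⧸ C, q ≠ ((1 : G) : G ⧸ C) → ∀ j : {x : T // π x = q},
      ∃ f : {x : T // π x = q} → TC, Function.Injective f ∧
        (Function.Surjective f → ∀ u ∈ TC, ∀ v ∈ TC, ∀ g : G, (g : G ⧸ C) = q →
          g⁻¹ * (u⁻¹ * v) * g ∈ C) := by
    rintro q - ⟨⟨j, hjT⟩, hjq⟩
    have hjj : j * j = 1 := by
      obtain ⟨g, -, rfl⟩ := hjT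
      rw [show g * τ * g⁻¹ * (g * τ * g⁻¹) = g * (τ * τ) * g⁻¹ by group, hττ, mul_one,
        mul_inv_cancel]
    have hjinv : j⁻¹ = j := inv_eq_of_mul_eq_one_right hjj
    let D : Subgroup G := C ⊓ C.comap (MulAut.conj j).toMonoidHom
    have hD : ∀ d ∈ D, β d = d ∧ β (j * d * j) = j * d * j := by
      intro d hd
      refine ⟨hd.1, ?_⟩
      have h : j * d * j⁻¹ ∈ C := hd.2
      rwa [hjinv] at h
    have hjD : ∀ d ∈ D, j * d * j ∈ D := by
      intro d hd
      refine ⟨(hD d hd).2, ?_⟩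
      show j * (j * d * j) * j⁻¹ ∈ C
      rw [hjinv, show j * (j * d * j) * j = (j * j) * d * (j * j) by group, hjj, one_mul, mul_one]
      exact hd.1
    have hjjd : ∀ d : G, j * (j * d * j) * j = d := fun d => by
      rw [show j * (j * d * j) * j = (j * j) * d * (j * j) by group, hjj, one_mul, mul_one]
    let p : G → Prop := fun x => (∀ d ∈ D, x * d * x⁻¹ = d) ∨ (∀ d ∈ D, x * d * x⁻¹ = j * d * j)
    let M : Subgroup G :=
      { carrier := {x | p x}
        one_mem' := Or.inl fun d _ => by group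
        mul_mem' := by
          rintro a b ha hb
          rcases ha with ha | ha <;> rcases hb with hb | hb
          · exact Or.inl fun d hd => by
              rw [show a * b * d * (a * b)⁻¹ = a * (b * d * b⁻¹) * a⁻¹ by group, hb d hd, ha d hd]
          · exact Or.inr fun d hd => by
              rw [show a * b * d * (a * b)⁻¹ = a * (b * d * b⁻¹) * a⁻¹ by group, hb d hd,
                ha _ (hjD d hd)]
          · exact Or.inr fun d hd => by
              rw [show a * b * d * (a * b)⁻¹ = a * (b * d * b⁻¹) * a⁻¹ by group, hb d hd, ha d hd]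
          · exact Or.inl fun d hd => by
              rw [show a * b * d * (a * b)⁻¹ = a * (b * d * b⁻¹) * a⁻¹ by group, hb d hd,
                ha _ (hjD d hd), hjjd]
        inv_mem' := by
          rintro a (ha | ha)
          · exact Or.inl fun d hd => by
              conv_lhs => rw [← ha d hd]
              group
          · exact Or.inr fun d hd => by
              have h := ha _ (hjD d hd)
              rw [hjjd] at h
              calc a⁻¹ * d * a⁻¹⁻¹ = a⁻¹ * (a * (j * d * j) * a⁻¹) * a⁻¹⁻¹ := by rw [h]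
                _ = _ := by group }
    have hMI : Inv β M := by
      rintro x (hx | hx)
      · exact Or.inl fun d hd => by
          conv_lhs => rw [← (hD d hd).1, ← map_inv, ← map_mul, ← map_mul, hx d hd]
          exact (hD d hd).1
      · exact Or.inr fun d hd => by
          conv_lhs => rw [← (hD d hd).1, ← map_inv, ← map_mul, ← map_mul, hx d hd]
          exact (hD d hd).2
    have hjM : j ∈ M := Or.inr fun d _ => by rw [hjinv]
    obtain ⟨R, hRI⟩ := exists_inv_sylow 2 hβ hrG hMI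
    have hRfix := fixed_of_inv hβ hrG S₀ h0 (R.isPGroup'.map M.subtype) hRI
    have hzp : IsPGroup 2 (zpowers (⟨j, hjM⟩ : M)) := by
      rintro ⟨y, hy⟩
      obtain ⟨k, rfl⟩ := mem_zpowers_iff.1 hy
      refine ⟨1, Subtype.ext (Subtype.ext ?_)⟩
      show (j ^ k) ^ 2 ^ 1 = 1
      rw [pow_one, pow_two, ← zpow_add, ← two_mul, zpow_mul, zpow_two, hjj, one_zpow]
    obtain ⟨R', hR'⟩ := hzp.exists_le_sylow
    obtain ⟨m, hm⟩ := MulAction.exists_smul_eq M R' R
    have hmC : (m : G) * j * (m : G)⁻¹ ∈ C := by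
      refine hRfix _ ⟨m * ⟨j, hjM⟩ * m⁻¹, ?_, rfl⟩
      rw [← hm, Sylow.coe_subgroup_smul]
      exact Subgroup.smul_mem_pointwise_smul _ (MulAut.conj m) _ (hR' (mem_zpowers _))
    obtain ⟨l, hl, hlC⟩ : ∃ l : G, (∀ d ∈ D, l * d * l⁻¹ = d) ∧ l * j * l⁻¹ ∈ C := by
      rcases m.2 with h | h
      · exact ⟨m, h, hmC⟩
      · refine ⟨(m : G) * j, fun d hd => ?_, ?_⟩
        · rw [show (m : G) * j * d * ((m : G) * j)⁻¹ = (m : G) * (j * d * j⁻¹) * (m : G)⁻¹ by group,
            hjinv, h _ (hjD d hd), hjjd]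
        · rw [show (m : G) * j * j * ((m : G) * j)⁻¹ = (m : G) * j * (m : G)⁻¹ by group]
          exact hmC
    have hdiff : ∀ x : {x : T // π x = q}, j * ((x : T) : G) ∈ D := by
      rintro ⟨⟨x, hxT⟩, hxq⟩
      have hxx : x * x = 1 := by
        obtain ⟨g, -, rfl⟩ := hxT
        rw [show g * τ * g⁻¹ * (g * τ * g⁻¹) = g * (τ * τ) * g⁻¹ by group, hττ, mul_one,
          mul_inv_cancel]
      have hc : j * x ∈ C := by
        have h : (j : G ⧸ C) = (x : G ⧸ C) := hjq.trans hxq.symm
        rwa [QuotientGroup.eq, hjinv] at h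
      refine ⟨hc, ?_⟩
      show j * (j * x) * j⁻¹ ∈ C
      have := inv_mem hc
      rw [mul_inv_rev, hjinv, inv_eq_of_mul_eq_one_right hxx] at this
      rwa [hjinv, ← mul_assoc, hjj, one_mul]
    have hval : ∀ x : {x : T // π x = q},
        l * ((x : T) : G) * l⁻¹ = l * j * l⁻¹ * (j * ((x : T) : G)) := by
      intro x
      have h := hl _ (hdiff x)
      calc l * ((x : T) : G) * l⁻¹ = l * (j * j * ((x : T) : G)) * l⁻¹ := by rw [hjj, one_mul]
        _ = (l * j * l⁻¹) * (l * (j * ((x : T) : G)) * l⁻¹) := by group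
        _ = _ := by rw [h]
    refine ⟨fun x => ⟨l * ((x : T) : G) * l⁻¹, hTC _ ?_ ?_⟩, fun x y h => ?_, fun hsurj => ?_⟩
    · obtain ⟨g, -, hg⟩ := x.1.2
      exact ⟨l * g, mem_top _, by rw [← hg]; group⟩
    · rw [hval]
      exact mul_mem hlC (hdiff x).1
    · exact Subtype.ext (Subtype.ext (mul_left_cancel (mul_right_cancel (congrArg Subtype.val h :))))
    · intro u hu v hv g hg
      have hmem : ∀ w ∈ TC, (l * j * l⁻¹)⁻¹ * w ∈ D := by
        intro w hw
        obtain ⟨x, hx⟩ := hsurj ⟨w, hw⟩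
        have e : l * ((x : T) : G) * l⁻¹ = w := congrArg Subtype.val hx
        rw [← e, hval, inv_mul_cancel_left]
        exact hdiff x
      have huv : u⁻¹ * v ∈ D := by
        have h := mul_mem (inv_mem (hmem u hu)) (hmem v hv)
        rwa [show ((l * j * l⁻¹)⁻¹ * u)⁻¹ * ((l * j * l⁻¹)⁻¹ * v) = u⁻¹ * v by group] at h
      have hjg : j * g ∈ C := by
        have h : (j : G ⧸ C) = (g : G ⧸ C) := hjq.trans hg.symm
        rwa [QuotientGroup.eq, hjinv] at h
      have h1 := mul_mem (mul_mem (inv_mem hjg) (hD _ huv).2) hjg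
      rwa [show (j * g)⁻¹ * (j * (u⁻¹ * v) * j) * (j * g)
        = g⁻¹ * (u⁻¹ * v) * ((j * j) * g) by group, hjj, one_mul] at h1
  -- counting
  have hτTC : τ ∈ TC := ⟨1, one_mem _, by group⟩
  have hm0 : 0 < Nat.card TC := Nat.card_pos_iff.2 ⟨⟨⟨τ, hτTC⟩⟩, inferInstance⟩
  have hle : ∀ q : G ⧸ C, Nat.card {x : T // π x = q} ≤ Nat.card TC := by
    intro q
    by_cases hq : q = ((1 : G) : G ⧸ C)
    · subst hq
      refine Nat.card_le_card_of_injective
        (fun x => ⟨((x : T) : G), hTC _ x.1.2 ?_⟩) fun x y h =>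
          Subtype.ext (Subtype.ext (congrArg Subtype.val h :))
      have h := x.2
      simp only [π, QuotientGroup.eq, mul_one] at h
      exact inv_mem_iff.1 h
    · rcases isEmpty_or_nonempty {x : T // π x = q} with he | ⟨⟨j⟩⟩
      · rw [Nat.card_of_isEmpty]; exact Nat.zero_le _
      · obtain ⟨f, hf, -⟩ := hfib q hq j
        exact Nat.card_le_card_of_injective f hf
  have : Fintype (G ⧸ C) := Fintype.ofFinite _
  have hsum : ∑ q : G ⧸ C, Nat.card {x : T // π x = q} = ∑ _q : G ⧸ C, Nat.card TC := by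
    rw [← Nat.card_sigma, Nat.card_congr (Equiv.sigmaFiberEquiv π), Finset.sum_const,
      Finset.card_univ, ← Nat.card_eq_fintype_card, smul_eq_mul, card_conjBy, card_conjBy,
      relIndex_top_right, mul_comm]
    exact (relIndex_mul_index hCle).symm
  have heq := (Finset.sum_eq_sum_iff_of_le fun q _ => hle q).1 hsum
  have hsing : ∀ u ∈ TC, ∀ v ∈ TC, u = v := by
    intro u hu v hv
    have hcore : u⁻¹ * v ∈ C.normalCore := by
      intro b
      by_cases hb : b⁻¹ ∈ C
      · exact mul_mem (mul_mem (by simpa using inv_mem hb)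
          (mul_mem (inv_mem (hTCC u hu).1) (hTCC v hv).1)) hb
      · have hq : ((b⁻¹ : G) : G ⧸ C) ≠ ((1 : G) : G ⧸ C) := by
          intro h
          rw [QuotientGroup.eq, mul_one, inv_mem_iff] at h
          exact hb h
        have hc := heq ((b⁻¹ : G) : G ⧸ C) (Finset.mem_univ _)
        obtain ⟨⟨j⟩, -⟩ := Nat.card_pos_iff.1 (hc ▸ hm0)
        obtain ⟨f, hf, hs⟩ := hfib _ hq j
        have h := hs (((Nat.bijective_iff_injective_and_card f).2 ⟨hf, hc⟩).2) u hu v hv b⁻¹ rfl
        rwa [inv_inv] at h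
    have hbot : C.normalCore = ⊥ := by
      rcases (normalCore_normal C).eq_bot_or_eq_top with h | h
      · exact h
      · exact absurd (top_le_iff.1 (h ▸ normalCore_le C)) hCtop
    rw [hbot, mem_bot, inv_mul_eq_one] at hcore
    exact hcore
  have hiso : Cfsg.IsIsolatedInvolution τ := by
    refine ⟨hτ, fun g hg => ?_⟩
    have h1 : g * τ * g⁻¹ ∈ C := hCle (mem_centralizer_singleton_iff.2 hg.eq.symm)
    exact hsing _ (hTC _ ⟨g, mem_top _, rfl⟩ h1) τ hτTC
  have hO : Cfsg.oddCore G = ⊥ := by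
    have hn : (Cfsg.oddCore G).Normal := CfsgLib.Solvable.pPrimeCore_normal 2 G
    rcases hn.eq_bot_or_eq_top with h | h
    · exact h
    · have hodd' := CfsgLib.Invol.odd_card_oddCore G
      rw [h, card_top] at hodd'
      exact absurd (hτ ▸ orderOf_dvd_natCard τ : 2 ∣ Nat.card G)
        (Nat.two_dvd_ne_zero.2 (Nat.odd_iff.1 hodd'))
  apply hG
  have hz : τ ∈ center G := mem_center_iff.2 fun g => by
    have h := CfsgLib.Invol.zstar G hiso g
    rw [hO, mem_bot] at h
    calc g * τ = (τ * g * τ⁻¹ * g⁻¹) * (g * τ) := by rw [h, one_mul]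
      _ = _ := by group
  rcases (inferInstance : (center G).Normal).eq_bot_or_eq_top with h | h
  · rw [h, mem_bot] at hz
    rw [hz, orderOf_one] at hτ
    omega
  · exact ⟨⟨fun a b => (mem_center_iff.1 (h ▸ mem_top a : a ∈ center G) b).symm⟩⟩

end CfsgLib.CoprimeInvol
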